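import Mathlib

/-!
# S2187, TRI-10: a group with quotient `S₃`
-/

set_option autoImplicit false

namespace Cfsg.Agent.H388.Tri.PsiAbs

/-- `Q` is generated by `r` of order three and `k` inverting it -/
structure IsS3 {Q : Type*} [Group Q] (r k : Q) : Prop where
  r3 : r ^ 3 = 1
  r1 : r ≠ 1
  k2 : k * k = 1
  kr : k * r * k = r⁻¹
  all : ∀ q : Q, ∃ i : ℕ, q = r ^ i ∨ q = r ^ i * k

variable {Q : Type*} [Group Q] {r k : Q}

theorem IsS3.ne_inv (h : IsS3 r k) : r ≠ r⁻¹ := by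
  intro h1
  apply h.r1
  have h2 : r * r = 1 := by
    nth_rw 1 [h1]
    exact inv_mul_cancel r
  have h3 := h.r3
  rw [pow_succ, pow_two, h2, one_mul] at h3
  exact h3

theorem IsS3.not_comm (h : IsS3 r k) : k * r ≠ r * k := by
  intro h1
  apply h.ne_inv
  rw [← h.kr, h1, mul_assoc, h.k2, mul_one]

theorem IsS3.pow_conj (h : IsS3 r k) (i : ℕ) : k * r ^ i * k = (r ^ i)⁻¹ := by
  have hk : k⁻¹ = k := inv_eq_of_mul_eq_one_right h.k2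
  have h1 : k * r ^ i * k⁻¹ = (k * r * k⁻¹) ^ i := (conj_pow).symm
  rw [hk, h.kr] at h1
  rw [h1, inv_pow]

theorem IsS3.eq_one_of_pow (h : IsS3 r k) {i : ℕ} (hi : r ^ i * r ^ i = 1) : r ^ i = 1 := by
  have h1 : (r ^ i) ^ 3 = 1 := by rw [← pow_mul, mul_comm, pow_mul, h.r3, one_pow]
  rw [pow_succ, pow_two, hi, one_mul] at h1
  exact h1

theorem IsS3.eq_one_of_comm (h : IsS3 r k) {z : Q} (hr : z * r = r * z) (hk : z * k = k * z) : z = 1 := by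
  obtain ⟨i, rfl | rfl⟩ := h.all z
  · apply h.eq_one_of_pow
    have h1 := h.pow_conj i
    rw [← hk, mul_assoc, h.k2, mul_one] at h1
    nth_rw 1 [h1]
    exact inv_mul_cancel _
  · exfalso
    apply h.not_comm
    have h1 : r ^ i * (k * r) = r ^ i * (r * k) := by
      rw [← mul_assoc, hr, ← mul_assoc, ← mul_assoc, ← pow_succ, ← pow_succ']
    exact mul_left_cancel h1

/-- a normal subgroup of exponent two is trivial -/
theorem IsS3.eq_one_of_normal (h : IsS3 r k) {V : Set Q} (h2 : ∀ v ∈ V, v * v = 1)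
    (hm : ∀ v ∈ V, ∀ w ∈ V, v * w ∈ V) (hn : ∀ v ∈ V, ∀ q, q * v * q⁻¹ ∈ V) {v : Q} (hv : v ∈ V) : v = 1 := by
  obtain ⟨i, rfl | rfl⟩ := h.all v
  · exact h.eq_one_of_pow (h2 _ hv)
  · exfalso
    obtain ⟨v, hvd⟩ : ∃ v, v = r ^ i * k := ⟨_, rfl⟩
    rw [← hvd] at hv
    have hvv := h2 v hv
    have h1 := hm _ (hn v hv r) _ hv
    have hki : k⁻¹ = k := inv_eq_of_mul_eq_one_right h.k2
    have h3 : v * r⁻¹ * v⁻¹ = r := by
      rw [hvd, mul_inv_rev, hki]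
      have h4 : k * r⁻¹ * k = r := by
        have h5 := h.kr
        have h6 : (k * r * k)⁻¹ = k * r⁻¹ * k := by rw [mul_inv_rev, mul_inv_rev, hki, mul_assoc]
        rw [← h6, h5, inv_inv]
      calc r ^ i * k * r⁻¹ * (k * (r ^ i)⁻¹) = r ^ i * (k * r⁻¹ * k) * (r ^ i)⁻¹ := by group
        _ = r := by rw [h4, ← pow_succ, pow_succ']; group
    have h4 : r * v * r⁻¹ * v = r * r := by
      calc r * v * r⁻¹ * v = r * (v * r⁻¹ * v⁻¹) * (v * v) := by group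
        _ = r * r := by rw [h3, hvv, mul_one]
    rw [h4] at h1
    have h5 := h2 _ h1
    apply h.r1
    calc r = r * r * (r * r) * (r ^ 3)⁻¹ := by group
      _ = 1 := by rw [h5, h.r3, inv_one, one_mul]

section Main

variable {A : Type*} [Group A] {π : A →* Q} (hπ : Function.Surjective π) (S : IsS3 r k) {Δ : Subgroup A} {Φ : Set A}
  {a b : A} (hdec : ∀ x : A, ∃ δ ∈ Δ, ∃ f ∈ Φ, ∃ i j : ℕ, x = δ * f * a ^ i * b ^ j)
  (hff : ∀ f ∈ Φ, ∀ f' ∈ Φ, f * f' = f' * f) (hfa : ∀ f ∈ Φ, f * a = a * f) (hfb : ∀ f ∈ Φ, f * b = b * f)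
  (hΔf : ∀ f ∈ Φ, ∀ δ ∈ Δ, f * δ * f⁻¹ ∈ Δ) (hΔa : ∀ δ ∈ Δ, a * δ * a⁻¹ ∈ Δ) (hΔb : ∀ δ ∈ Δ, b * δ * b⁻¹ ∈ Δ)
  (hΔ2 : ∀ δ ∈ Δ, π δ * π δ = 1)

include hdec hΔf hΔa hΔb in
theorem conj_mem {δ : A} (hδ : δ ∈ Δ) (x : A) : x * δ * x⁻¹ ∈ Δ := by
  have hpow : ∀ {c : A}, (∀ δ ∈ Δ, c * δ * c⁻¹ ∈ Δ) → ∀ (i : ℕ), ∀ δ ∈ Δ, c ^ i * δ * (c ^ i)⁻¹ ∈ Δ := by
    intro c hc i
    induction i with
    | zero => intro δ hδ; rwa [pow_zero, one_mul, inv_one, mul_one]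
    | succ i ih =>
      intro δ hδ
      have e : c ^ (i + 1) * δ * (c ^ (i + 1))⁻¹ = c ^ i * (c * δ * c⁻¹) * (c ^ i)⁻¹ := by rw [pow_succ]; group
      rw [e]
      exact ih _ (hc δ hδ)
  obtain ⟨d, hd, f, hf, i, j, rfl⟩ := hdec x
  have e : d * f * a ^ i * b ^ j * δ * (d * f * a ^ i * b ^ j)⁻¹ =
      d * (f * (a ^ i * (b ^ j * δ * (b ^ j)⁻¹) * (a ^ i)⁻¹) * f⁻¹) * d⁻¹ := by group
  rw [e]
  exact mul_mem (mul_mem hd (hΔf f hf _ (hpow hΔa i _ (hpow hΔb j _ hδ)))) (inv_mem hd)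

include hπ S hdec hΔf hΔa hΔb hΔ2 in
theorem delta_one {δ : A} (hδ : δ ∈ Δ) : π δ = 1 := by
  refine S.eq_one_of_normal (V := π '' (Δ : Set A)) ?_ ?_ ?_ ⟨δ, hδ, rfl⟩
  · rintro _ ⟨d, hd, rfl⟩
    exact hΔ2 d hd
  · rintro _ ⟨d, hd, rfl⟩ _ ⟨d', hd', rfl⟩
    exact ⟨d * d', mul_mem hd hd', map_mul _ _ _⟩
  · rintro _ ⟨d, hd, rfl⟩ q
    obtain ⟨x, rfl⟩ := hπ q
    exact ⟨x * d * x⁻¹, conj_mem hdec hΔf hΔa hΔb hd x, by rw [map_mul, map_mul, map_inv]⟩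

include hπ S hdec hff hfa hfb hΔf hΔa hΔb hΔ2 in
theorem phi_one {f : A} (hf : f ∈ Φ) : π f = 1 := by
  have key : ∀ q : Q, π f * q = q * π f := by
    intro q
    obtain ⟨x, rfl⟩ := hπ q
    obtain ⟨d, hd, g, hg, i, j, rfl⟩ := hdec x
    have h1 := delta_one hπ S hdec hΔf hΔa hΔb hΔ2 hd
    have h2 : π (d * g * a ^ i * b ^ j) = π (g * a ^ i * b ^ j) := by
      rw [show d * g * a ^ i * b ^ j = d * (g * a ^ i * b ^ j) by group, map_mul, h1, one_mul]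
    have c1 : Commute f g := hff f hf g hg
    have c2 : Commute f (a ^ i) := Commute.pow_right (hfa f hf) i
    have c3 : Commute f (b ^ j) := Commute.pow_right (hfb f hf) j
    rw [h2, ← map_mul, ← map_mul, ((c1.mul_right c2).mul_right c3).eq]
  exact S.eq_one_of_comm (key r) (key k)

include hπ S hdec hff hfa hfb hΔf hΔa hΔb hΔ2 in
theorem a_ne : π a ≠ 1 := by
  intro ha
  have key : ∀ q : Q, ∃ j : ℕ, q = π b ^ j := by
    intro q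
    obtain ⟨x, rfl⟩ := hπ q
    obtain ⟨d, hd, g, hg, i, j, rfl⟩ := hdec x
    refine ⟨j, ?_⟩
    rw [map_mul, map_mul, map_mul, map_pow, map_pow, delta_one hπ S hdec hΔf hΔa hΔb hΔ2 hd,
      phi_one hπ S hdec hff hfa hfb hΔf hΔa hΔb hΔ2 hg, ha, one_pow, one_mul, one_mul, one_mul]
  obtain ⟨i, hi⟩ := key r
  obtain ⟨j, hj⟩ := key k
  apply S.not_comm
  rw [hi, hj, ← pow_add, ← pow_add, add_comm]

include hπ S hdec hff hfa hfb hΔf hΔa hΔb hΔ2 in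
/-- **The criterion.** -/
theorem main (ha3 : a ^ 3 = 1) {d f : A} (hd : d ∈ Δ) (hf : f ∈ Φ) {i : ℕ} (hx : (d * f * a ^ i) ^ 3 = 1) :
    (π (d * f * a ^ i) = 1 ↔ 3 ∣ i) ∧ π (d * f * a ^ i) ≠ k := by
  have h1 : π (d * f * a ^ i) = π a ^ i := by
    rw [map_mul, map_mul, map_pow, delta_one hπ S hdec hΔf hΔa hΔb hΔ2 hd,
      phi_one hπ S hdec hff hfa hfb hΔf hΔa hΔb hΔ2 hf, one_mul, one_mul]
  have h2 : orderOf (π a) = 3 := by
    refine orderOf_eq_prime (by rw [← map_pow, ha3, map_one]) (a_ne hπ S hdec hff hfa hfb hΔf hΔa hΔb hΔ2)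
  refine ⟨?_, ?_⟩
  · rw [h1, ← orderOf_dvd_iff_pow_eq_one, h2]
  · intro h3
    have h4 : k ^ 3 = 1 := by rw [← h3, ← map_pow, hx, map_one]
    rw [pow_succ, pow_two, S.k2, one_mul] at h4
    apply S.not_comm
    rw [h4, one_mul, mul_one]

end Main

end Cfsg.Agent.H388.Tri.PsiAbs
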